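import Groth.Agent.Lib.TorusCentr19.Basic

/-! # Centralisers and normalisers of closed tori in smooth separated groups -/

set_option autoImplicit false
set_option linter.style.haveILetI false
set_option backward.isDefEq.respectTransparency.types false
set_option maxSynthPendingDepth 3

universe u

open CategoryTheory Limits MonoidalCategory CartesianMonoidalCategory MonObj AlgebraicGeometry Opposite
open scoped TensorProduct

noncomputable section

namespace Groth.Agent.TorusCentr19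

open MTRigid29 DiagGL

variable {S : Scheme.{u}}

theorem isClosedImmersion_pullback_map {S' : Scheme.{u}} (b : S' ⟶ S) {H G : Over S} (i : H ⟶ G)
    [IsClosedImmersion i.left] : IsClosedImmersion ((Over.pullback b).map i).left := by
  have h : IsPullback (pullback.fst H.hom b) ((Over.pullback b).map i).left i.left (pullback.fst G.hom b) := by
    refine IsPullback.of_bot (v₂₁ := ((Over.pullback b).obj G).hom) (v₂₂ := G.hom) (h₃₁ := b) ?_ ?_
      (IsPullback.of_hasPullback G.hom b)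
    · rw [Over.w i, Over.w ((Over.pullback b).map i)]
      exact IsPullback.of_hasPullback H.hom b
    · exact (Limits.pullback.lift_fst _ _ _).symm
  exact MorphismProperty.of_isPullback (P := @IsClosedImmersion) h ‹_›

variable {G H H₁ H₂ : Over S} [GrpObj G] [GrpObj H] [GrpObj H₁] [GrpObj H₂]

/-- The transporter of a homomorphism to another one. -/
theorem exists_transporter_hom_smooth'' (hH : IsMT H) (hG : Smooth G.hom) [IsSeparated G.hom]
    (u₁ u₂ : H ⟶ G) [IsMonHom u₁] [IsMonHom u₂] :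
    ∃ (T : Over S) (j : T ⟶ G), IsClosedImmersion j.left ∧ Smooth T.hom ∧
      ∀ (X : Over S) (g : X ⟶ G), (∃ t : X ⟶ T, t ≫ j = g) ↔
        ∀ (X' : Over S) (x : X' ⟶ X) (h : X' ⟶ H), (x ≫ g) * (h ≫ u₁) * (x ≫ g)⁻¹ = h ≫ u₂ := by
  haveI := hG
  obtain ⟨C, c, hc, hfp, hC⟩ := exists_transporter_eq (G := G) (hasContentLoc_snd_of_isMT hH) u₁ u₂
  refine ⟨C, c, hc, TorusCentr19.smooth_of_lifts c fun D _ J hJ b g₀ hg₀ => ?_, hC⟩
  obtain ⟨g, hg1, hg2⟩ := exists_lift_of_eq hH hG u₁ u₂ D J hJ b g₀ ((hC _ _).1 hg₀)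
  exact ⟨g, hg1, (hC _ _).2 hg2⟩

theorem exists_lift_of_conj' (h₁ : SGA3x.IsMultTypeFT H₁) (h₂ : SGA3x.IsMultTypeFT H₂) (hG : Smooth G.hom)
    (i₁ : H₁ ⟶ G) [IsMonHom i₁] [Mono i₁] (i₂ : H₂ ⟶ G) [IsMonHom i₂] [Mono i₂]
    [IsClosedImmersion i₁.left] [IsClosedImmersion i₂.left]
    (D : Type u) [CommRing D] (J : Ideal D) (hJ : J ^ 2 = ⊥) (b : Spec (CommRingCat.of D) ⟶ S)
    (g₀ : Over.mk (Spec.map (CommRingCat.ofHom (Ideal.Quotient.mk J)) ≫ b) ⟶ G) (h0 : ConjCond i₁ i₂ g₀) :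
    ∃ g : Over.mk b ⟶ G, Spec.map (CommRingCat.ofHom (Ideal.Quotient.mk J)) ≫ g.left = g₀.left ∧
      ConjCond i₁ i₂ g := by
  have h₁' := isMultTypeFT_bc h₁ b
  have h₂' := isMultTypeFT_bc h₂ b
  obtain ⟨A, _, _, j, hj, ⟨e⟩⟩ := exists_model_affine (isMT_of_ft h₁')
  haveI : IsMonHom ((Over.pullback b).map i₁) := TorsorSch25.isMonHom_of_points _ fun T a c => fl_injective b G (by
    rw [fl_comp_map, fl_mul, fl_mul, fl_comp_map, fl_comp_map, MonObj.mul_comp])
  haveI : IsMonHom ((Over.pullback b).map i₂) := TorsorSch25.isMonHom_of_points _ fun T a c => fl_injective b G (by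
    rw [fl_comp_map, fl_mul, fl_mul, fl_comp_map, fl_comp_map, MonObj.mul_comp])
  haveI : IsClosedImmersion ((Over.pullback b).map i₁).left := isClosedImmersion_pullback_map b i₁
  haveI : IsClosedImmersion ((Over.pullback b).map i₂).left := isClosedImmersion_pullback_map b i₂
  obtain ⟨g₀', hg₀⟩ := fl_surjective b G (T := Over.mk (Spec.map (CommRingCat.ofHom (Ideal.Quotient.mk J)))) g₀
  obtain ⟨f, hf, hfi⟩ := exists_iso_of_mt ((Over.pullback b).map i₁) ((Over.pullback b).map i₂) (isMT_of_ft h₁')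
    (isMT_of_ft h₂') ⟨2, hJ⟩ g₀' fun X p => by
      refine ⟨fun h => ?_, fun h => ?_⟩
      · obtain ⟨a', ha'⟩ := (h0 _ ((Over.map b).map p)).1 (fl b H₁ h)
        obtain ⟨z, hz⟩ := fl_surjective b H₂ a'
        refine ⟨z, fl_injective b G ?_⟩
        rw [fl_mul, fl_mul, fl_comp_map, fl_comp_map, fl_inv b G, fl_comp, hg₀, hz]
        exact ha'
      · obtain ⟨a', ha'⟩ := (h0 _ ((Over.map b).map p)).2 (fl b H₂ h)
        obtain ⟨z, hz⟩ := fl_surjective b H₁ a'
        refine ⟨z, fl_injective b G ?_⟩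
        rw [fl_mul, fl_mul, fl_comp_map, fl_comp_map, fl_inv b G, fl_comp, hg₀, hz]
        exact ha'
  haveI := hf
  obtain ⟨g', hg1, hg2⟩ := exists_conj_nilpotent e hj ⟨2, hJ⟩ (MorphismProperty.pullback_snd G.hom b hG)
    ((Over.pullback b).map i₁) (f.hom ≫ (Over.pullback b).map i₂) g₀' hfi
  refine ⟨secOf b g', (secOf_red b g' g₀' hg1).trans (congrArg CommaMorphism.left hg₀), fun X' x => ⟨fun a => ?_, fun a => ?_⟩⟩
  · obtain ⟨Y, i, y, hy, hg⟩ := exists_bc_point (G := G) b x a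
    refine ⟨i.hom ≫ fl b H₂ (y ≫ f.hom), ?_⟩
    have h2 := congrArg (fun z => i.hom ≫ fl b G z) (hg2 Y y)
    rw [← Category.assoc y] at h2
    simp only [fl_mul, fl_comp_map, fl_inv b G, MonObj.comp_mul, GrpObj.comp_inv, hg] at h2
    rw [← Category.assoc i.hom, ← Category.assoc i.hom, hy] at h2
    exact h2.symm
  · obtain ⟨Y, i, y, hy, hg⟩ := exists_bc_point (G := G) b x a
    refine ⟨i.hom ≫ fl b H₁ (y ≫ f.inv), ?_⟩
    have h2 := congrArg (fun z => i.hom ≫ fl b G z) (hg2 Y (y ≫ f.inv))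
    rw [Category.assoc, Iso.inv_hom_id_assoc] at h2
    simp only [fl_mul, fl_comp_map, fl_inv b G, MonObj.comp_mul, GrpObj.comp_inv, hg] at h2
    rw [← Category.assoc i.hom, ← Category.assoc i.hom, hy] at h2
    rw [h2]
    group

/-- The transporter of a subgroup to another one. -/
theorem exists_transporter_conj_smooth' (h₁ : SGA3x.IsMultTypeFT H₁) (h₂ : SGA3x.IsMultTypeFT H₂) (hG : Smooth G.hom)
    [IsSeparated G.hom] (i₁ : H₁ ⟶ G) [IsMonHom i₁] [Mono i₁] (i₂ : H₂ ⟶ G) [IsMonHom i₂] [Mono i₂]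
    [IsClosedImmersion i₁.left] [IsClosedImmersion i₂.left] :
    ∃ (T : Over S) (j : T ⟶ G), IsClosedImmersion j.left ∧ Smooth T.hom ∧
      ∀ (X : Over S) (g : X ⟶ G), (∃ t : X ⟶ T, t ≫ j = g) ↔ ConjCond i₁ i₂ g := by
  haveI := hG
  haveI := lfp_of_isMultTypeFT h₁
  haveI := lfp_of_isMultTypeFT h₂
  obtain ⟨C₁, c₁, hc₁, hfp₁, hC₁⟩ := exists_transporter_into (G := G) (hasContentLoc_snd_of_isMultTypeFT h₁) i₁ i₂
  obtain ⟨C₂, c₂, hc₂, hfp₂, hC₂⟩ := exists_transporter_into (G := G) (hasContentLoc_snd_of_isMultTypeFT h₂) i₂ i₁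
  haveI : LocallyOfFinitePresentation (c₂.left ≫ G.hom) := by rw [Over.w c₂]; infer_instance
  haveI : LocallyOfFinitePresentation c₂.left := SchBasic.locallyOfFinitePresentation_of_comp c₂.left G.hom
  let ν : G ⟶ G := (𝟙 G)⁻¹
  let d := pullback.fst ν.left c₂.left
  haveI : IsClosedImmersion d := MorphismProperty.pullback_fst _ _ hc₂
  haveI : LocallyOfFinitePresentation d := MorphismProperty.pullback_fst _ _ ‹LocallyOfFinitePresentation c₂.left›
  let t := pullback.fst c₁.left d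
  haveI : IsClosedImmersion t := MorphismProperty.pullback_fst _ _ ‹IsClosedImmersion d›
  haveI : LocallyOfFinitePresentation t := MorphismProperty.pullback_fst _ _ ‹LocallyOfFinitePresentation d›
  let T : Over S := Over.mk (t ≫ C₁.hom)
  let j : T ⟶ G := Over.homMk (t ≫ c₁.left) (by
    show (t ≫ c₁.left) ≫ G.hom = t ≫ C₁.hom
    rw [Category.assoc, Over.w c₁])
  haveI : IsClosedImmersion j.left := inferInstanceAs (IsClosedImmersion (t ≫ c₁.left))
  haveI : LocallyOfFinitePresentation T.hom := inferInstanceAs (LocallyOfFinitePresentation (t ≫ C₁.hom))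
  have hT : ∀ (X : Over S) (g : X ⟶ G), (∃ z : X ⟶ T, z ≫ j = g) ↔ ConjCond i₁ i₂ g := by
    intro X g
    have hsplit : ConjCond i₁ i₂ g ↔ (∃ z, z ≫ c₁ = g) ∧ ∃ z, z ≫ c₂ = g⁻¹ := by
      rw [hC₁, hC₂]
      refine ⟨fun h => ⟨fun X' x a => (h X' x).1 a, fun X' x a => ?_⟩, fun h X' x => ⟨fun a => h.1 X' x a, fun a => ?_⟩⟩
      · rw [GrpObj.comp_inv, inv_inv]; exact (h X' x).2 a
      · have := h.2 X' x a
        rwa [GrpObj.comp_inv, inv_inv] at this
    rw [hsplit]
    have hν : g ≫ ν = g⁻¹ := by simp [ν, GrpObj.comp_inv]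
    constructor
    · rintro ⟨z, rfl⟩
      refine ⟨⟨Over.homMk (z.left ≫ t) ((Category.assoc _ _ _).trans (Over.w z)),
        Over.OverMorphism.ext (Category.assoc _ _ _)⟩, ?_⟩
      refine ⟨Over.homMk (z.left ≫ pullback.snd c₁.left d ≫ pullback.snd ν.left c₂.left) ?_, ?_⟩
      · rw [← Over.w c₂, Category.assoc, Category.assoc, ← pullback.condition_assoc, Over.w ν,
          ← Category.assoc (pullback.snd c₁.left d), ← pullback.condition, Category.assoc]
        exact Over.w (z ≫ j)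
      · rw [← hν]
        refine Over.OverMorphism.ext ?_
        show (z.left ≫ pullback.snd c₁.left d ≫ pullback.snd ν.left c₂.left) ≫ c₂.left = (z.left ≫ t ≫ c₁.left) ≫ ν.left
        rw [Category.assoc, Category.assoc, ← pullback.condition, ← Category.assoc (pullback.snd c₁.left d),
          ← pullback.condition, Category.assoc]
        simp only [t, Category.assoc]
    · rintro ⟨⟨z₁, hz₁⟩, ⟨z₂, hz₂⟩⟩
      let l : X.left ⟶ pullback ν.left c₂.left := pullback.lift g.left z₂.left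
        (congrArg CommaMorphism.left (hν.trans hz₂.symm))
      let m : X.left ⟶ pullback c₁.left d :=
        pullback.lift z₁.left l ((congrArg CommaMorphism.left hz₁).trans (pullback.lift_fst _ _ _).symm)
      refine ⟨Over.homMk m ((pullback.lift_fst_assoc _ _ _ _).trans (Over.w z₁)), Over.OverMorphism.ext ?_⟩
      exact (pullback.lift_fst_assoc _ _ _ _).trans (congrArg CommaMorphism.left hz₁)
  refine ⟨T, j, inferInstance, TorusCentr19.smooth_of_lifts j fun D _ J hJ b g₀ hg₀ => ?_, hT⟩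
  obtain ⟨g, hg1, hg2⟩ := exists_lift_of_conj' h₁ h₂ hG i₁ i₂ D J hJ b g₀ ((hT _ _).1 hg₀)
  exact ⟨g, hg1, (hT _ _).2 hg2⟩

/-- The centralizer of a homomorphism from a group of multiplicative type is smooth. -/
theorem exists_centralizer' (hH : IsMT H) (hG : Smooth G.hom) [IsSeparated G.hom] (u : H ⟶ G) [IsMonHom u] :
    ∃ (Z : Over S) (_ : GrpObj Z) (j : Z ⟶ G), Red.IsCentralizerOf u j ∧ IsClosedImmersion j.left ∧ Smooth Z.hom := by
  obtain ⟨Z, j, hj, hsm, hiff⟩ := exists_transporter_hom_smooth'' hH hG u u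
  haveI := hj
  haveI : Mono j := Over.mono_of_mono_left j
  have hiff' : ∀ (X : Over S) (g : X ⟶ G), (∃ z : X ⟶ Z, z ≫ j = g) ↔
      ∀ (X' : Over S) (x : X' ⟶ X) (h : X' ⟶ H), (x ≫ g) * (h ≫ u) = (h ≫ u) * (x ≫ g) := fun X g =>
    (hiff X g).trans (forall_congr' fun X' => forall_congr' fun x => forall_congr' fun h => mul_inv_eq_iff_eq_mul)
  obtain ⟨hgrp, hhom⟩ := exists_grpObj_of_subgroup j
    (fun X a b => (hiff' X _).2 fun X' x h => by
      have ha := (hiff' X _).1 ⟨a, rfl⟩ X' x h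
      have hb := (hiff' X _).1 ⟨b, rfl⟩ X' x h
      rw [MonObj.comp_mul, _root_.mul_assoc, hb, ← _root_.mul_assoc, ha, _root_.mul_assoc])
    ((hiff' _ _).2 fun X' x h => by rw [MonObj.comp_one, _root_.one_mul, _root_.mul_one])
    (fun X a => (hiff' X _).2 fun X' x h => by
      have ha : Commute (x ≫ a ≫ j) (h ≫ u) := (hiff' X _).1 ⟨a, rfl⟩ X' x h
      rw [GrpObj.comp_inv]
      exact ha.inv_left)
  letI := hgrp
  exact ⟨Z, inferInstance, j, ⟨hhom, inferInstance, hiff'⟩, hj, hsm⟩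

/-- The normalizer of a subgroup of multiplicative type is smooth. -/
theorem exists_normalizer' (hH : SGA3x.IsMultTypeFT H) (hG : Smooth G.hom) [IsSeparated G.hom] (i : H ⟶ G)
    [IsMonHom i] [Mono i] [IsClosedImmersion i.left] :
    ∃ (N : Over S) (_ : GrpObj N) (j : N ⟶ G), Red.IsNormalizerOf i j ∧ IsClosedImmersion j.left ∧ Smooth N.hom := by
  obtain ⟨N, j, hj, hsm, hiff⟩ := exists_transporter_conj_smooth' hH hH hG i i
  haveI := hj
  haveI : Mono j := Over.mono_of_mono_left j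
  obtain ⟨hgrp, hhom⟩ := exists_grpObj_of_subgroup j
    (fun X a b => (hiff X _).2 fun X' x => by
      have ha := (hiff X _).1 ⟨a, rfl⟩ X' x
      have hb := (hiff X _).1 ⟨b, rfl⟩ X' x
      rw [MonObj.comp_mul]
      refine ⟨fun h => ?_, fun h => ?_⟩
      · obtain ⟨h', hh'⟩ := hb.1 h
        obtain ⟨h'', hh''⟩ := ha.1 h'
        exact ⟨h'', by rw [← hh'', ← hh']; group⟩
      · obtain ⟨h', hh'⟩ := ha.2 h
        obtain ⟨h'', hh''⟩ := hb.2 h'
        exact ⟨h'', by rw [← hh'', ← hh']; group⟩)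
    ((hiff _ _).2 fun X' x => by
      simp only [MonObj.comp_one, _root_.one_mul, inv_one, _root_.mul_one]
      exact ⟨fun h => ⟨h, rfl⟩, fun h => ⟨h, rfl⟩⟩)
    (fun X a => (hiff X _).2 fun X' x => by
      have ha := (hiff X _).1 ⟨a, rfl⟩ X' x
      rw [GrpObj.comp_inv, inv_inv]
      exact ⟨ha.2, ha.1⟩)
  letI := hgrp
  refine ⟨N, inferInstance, j, ⟨hhom, inferInstance, fun X g => (hiff X g).trans ?_⟩, hj, hsm⟩
  exact ⟨fun h X' x a => ⟨(h X' x).1 a, (h X' x).2 a⟩, fun h X' x => ⟨fun a => (h X' x a).1, fun a => (h X' x a).2⟩⟩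

end Groth.Agent.TorusCentr19
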