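import Groth.Agent.Lib.MTRigid29.CentralizerNormalizer
import Groth.Agent.Lib.MTRigid29.FixedSmooth
import Groth.Agent.Lib.MTRigid29.Graph

/-! # Centralisers and normalisers of tori in smooth separated groups -/

set_option autoImplicit false
set_option linter.style.haveILetI false
set_option backward.isDefEq.respectTransparency.types false
set_option maxSynthPendingDepth 3

universe u

open CategoryTheory Limits MonoidalCategory CartesianMonoidalCategory MonObj AlgebraicGeometry Opposite

noncomputable section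

namespace Groth.Agent.TorusCentr19

open MTRigid29 DiagGL

variable {S : Scheme.{u}}

/-- A closed subscheme whose points lift along square-zero thickenings is smooth. -/
theorem smooth_of_lifts {G : Over S} {C : Over S} (c : C ⟶ G) [IsClosedImmersion c.left]
    [LocallyOfFinitePresentation C.hom]
    (h : ∀ (D : Type u) [CommRing D] (J : Ideal D), J ^ 2 = ⊥ → ∀ (b : Spec (CommRingCat.of D) ⟶ S)
      (g₀ : Over.mk (Spec.map (CommRingCat.ofHom (Ideal.Quotient.mk J)) ≫ b) ⟶ G), (∃ z, z ≫ c = g₀) →
      ∃ g : Over.mk b ⟶ G, Spec.map (CommRingCat.ofHom (Ideal.Quotient.mk J)) ≫ g.left = g₀.left ∧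
        ∃ z, z ≫ c = g) :
    Smooth C.hom := by
  have key : ∀ z : C.left, ∃ W : C.left.Opens, z ∈ W ∧ Smooth (W.ι ≫ C.hom) := by
    intro z
    obtain ⟨U, hU, hzU, -⟩ := exists_isAffineOpen_mem_and_subset (X := S) (x := G.hom (c.left z)) (U := ⊤) trivial
    obtain ⟨V, hV, hzV, hVU⟩ := exists_isAffineOpen_mem_and_subset (x := c.left z) (U := G.hom ⁻¹ᵁ U) hzU
    let W : C.left.Opens := c.left ⁻¹ᵁ V
    let G' : Over (U : Scheme.{u}) := Over.mk (G.hom.resLE U V hVU)
    have hWU : W ≤ C.hom ⁻¹ᵁ U := fun p hp => by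
      show C.hom p ∈ U
      rw [← Over.w c]
      exact hVU hp
    let C' : Over (U : Scheme.{u}) := Over.mk (C.hom.resLE U W hWU)
    let c' : C' ⟶ G' := Over.homMk (c.left.resLE V W le_rfl) (by
      rw [← cancel_mono U.ι]
      show (c.left.resLE V W le_rfl ≫ G.hom.resLE U V hVU) ≫ U.ι = C.hom.resLE U W hWU ≫ U.ι
      rw [Category.assoc, Scheme.Hom.resLE_comp_ι, Scheme.Hom.resLE_comp_ι_assoc, Scheme.Hom.resLE_comp_ι, Over.w c])
    haveI : IsClosedImmersion c'.left := by
      show IsClosedImmersion (c.left.resLE V (c.left ⁻¹ᵁ V) le_rfl)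
      rw [Scheme.Hom.resLE_eq_morphismRestrict]
      exact IsZariskiLocalAtTarget.restrict ‹IsClosedImmersion c.left› V
    haveI : IsAffine (U : Scheme.{u}) := hU
    haveI : IsAffine (V : Scheme.{u}) := hV
    haveI : IsAffine G'.left := hV
    have hG' : IsAffineHom G'.hom := isAffineHom_of_isAffine _
    haveI : LocallyOfFinitePresentation C'.hom := by
      show LocallyOfFinitePresentation (C.hom.resLE U W hWU)
      haveI : LocallyOfFinitePresentation (C.hom.resLE U W hWU ≫ U.ι) := by
        rw [Scheme.Hom.resLE_comp_ι]; infer_instance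
      exact SchBasic.locallyOfFinitePresentation_of_comp _ U.ι
    have hsm : Smooth C'.hom := by
      refine MTRigid29.smooth_of_lifts hG' c' fun D _ J hJ b g₀ hg₀ => ?_
      obtain ⟨z₀, hz₀⟩ := hg₀
      let q := Spec.map (CommRingCat.ofHom (Ideal.Quotient.mk J))
      let g₀' : Over.mk (q ≫ b ≫ U.ι) ⟶ G := Over.homMk (g₀.left ≫ V.ι) (by
        have h1 := Over.w g₀
        show (g₀.left ≫ V.ι) ≫ G.hom = q ≫ b ≫ U.ι
        rw [Category.assoc, ← Scheme.Hom.resLE_comp_ι G.hom hVU, ← Category.assoc]
        exact (congrArg (· ≫ U.ι) h1).trans (Category.assoc _ _ _))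
      obtain ⟨g, hg, w, hw⟩ := h D J hJ (b ≫ U.ι) g₀' ⟨Over.homMk (z₀.left ≫ W.ι) (by
        have h1 := Over.w z₀
        show (z₀.left ≫ W.ι) ≫ C.hom = q ≫ b ≫ U.ι
        rw [Category.assoc, ← Scheme.Hom.resLE_comp_ι C.hom hWU, ← Category.assoc]
        exact (congrArg (· ≫ U.ι) h1).trans (Category.assoc _ _ _)), Over.OverMorphism.ext (by
          show (z₀.left ≫ W.ι) ≫ c.left = g₀.left ≫ V.ι
          rw [Category.assoc, ← Scheme.Hom.resLE_comp_ι c.left (le_refl W), ← Category.assoc]
          exact congrArg (fun m => CommaMorphism.left m ≫ V.ι) hz₀)⟩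
      have hsurj : Function.Surjective q := by
        intro p
        refine ⟨⟨p.asIdeal.map (Ideal.Quotient.mk J), Ideal.map_isPrime_of_surjective Ideal.Quotient.mk_surjective (by
          rw [Ideal.mk_ker]
          intro x hx
          refine p.isPrime.mem_of_pow_mem 2 ?_
          have := Ideal.pow_mem_pow hx 2
          rw [hJ, Submodule.mem_bot] at this
          rw [this]; exact zero_mem _)⟩, PrimeSpectrum.ext ?_⟩
        show Ideal.comap (Ideal.Quotient.mk J) (p.asIdeal.map (Ideal.Quotient.mk J)) = p.asIdeal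
        rw [Ideal.comap_map_of_surjective _ Ideal.Quotient.mk_surjective, ← RingHom.ker_eq_comap_bot, Ideal.mk_ker]
        refine sup_eq_left.2 fun x hx => p.isPrime.mem_of_pow_mem 2 ?_
        have := Ideal.pow_mem_pow hx 2
        rw [hJ, Submodule.mem_bot] at this
        rw [this]; exact zero_mem _
      have hgV : ∀ p, g.left p ∈ V := fun p => by
        obtain ⟨p₀, rfl⟩ := hsurj p
        have h1 : g.left (q p₀) = V.ι (g₀.left p₀) := congrArg (fun m : Spec (CommRingCat.of (D ⧸ J)) ⟶ G.left => m p₀) hg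
        rw [h1]
        exact (g₀.left p₀).2
      have hrange : Set.range g.left ⊆ Set.range V.ι := by
        rw [Scheme.Opens.range_ι]; rintro _ ⟨p, rfl⟩; exact hgV p
      have hrange' : Set.range w.left ⊆ Set.range W.ι := by
        rw [Scheme.Opens.range_ι]
        rintro _ ⟨p, rfl⟩
        show c.left (w.left p) ∈ V
        have h1 : c.left (w.left p) = g.left p := congrArg (fun m : Over.mk (b ≫ U.ι) ⟶ G => m.left p) hw
        rw [h1]; exact hgV p
      let g' : Over.mk b ⟶ G' := Over.homMk (IsOpenImmersion.lift V.ι g.left hrange) (by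
        rw [← cancel_mono U.ι]
        show (_ ≫ G.hom.resLE U V hVU) ≫ U.ι = b ≫ U.ι
        rw [Category.assoc, Scheme.Hom.resLE_comp_ι, IsOpenImmersion.lift_fac_assoc]
        exact Over.w g)
      let w' : Over.mk b ⟶ C' := Over.homMk (IsOpenImmersion.lift W.ι w.left hrange') (by
        rw [← cancel_mono U.ι]
        show (_ ≫ C.hom.resLE U W hWU) ≫ U.ι = b ≫ U.ι
        rw [Category.assoc, Scheme.Hom.resLE_comp_ι, IsOpenImmersion.lift_fac_assoc]
        exact Over.w w)
      refine ⟨g', ?_, w', Over.OverMorphism.ext ?_⟩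
      · rw [← cancel_mono V.ι]
        show (_ ≫ IsOpenImmersion.lift V.ι g.left hrange) ≫ V.ι = g₀.left ≫ V.ι
        rw [Category.assoc, IsOpenImmersion.lift_fac]
        exact hg
      · rw [← cancel_mono V.ι]
        show (IsOpenImmersion.lift W.ι w.left hrange' ≫ c.left.resLE V W le_rfl) ≫ V.ι =
          IsOpenImmersion.lift V.ι g.left hrange ≫ V.ι
        rw [Category.assoc, Scheme.Hom.resLE_comp_ι, IsOpenImmersion.lift_fac_assoc, IsOpenImmersion.lift_fac]
        exact congrArg CommaMorphism.left hw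
    refine ⟨W, hzV, ?_⟩
    haveI : Smooth (C.hom.resLE U W hWU) := hsm
    rw [← Scheme.Hom.resLE_comp_ι C.hom hWU]
    infer_instance
  choose W hW hsm using key
  refine IsZariskiLocalAtSource.of_openCover (P := @Smooth)
    (C.left.openCoverOfIsOpenCover W (TopologicalSpace.IsOpenCover.mk (top_le_iff.1 fun p _ =>
      TopologicalSpace.Opens.mem_iSup.2 ⟨p, hW p⟩))) fun p => hsm p

variable {G : Over S} [GrpObj G]

/-- A group with a closed torus subgroup is separated. -/
theorem isSeparated_of_closed_affine_subgroup {Q : Over S} [GrpObj Q] (hQ : IsAffineHom Q.hom) (q : Q ⟶ G) [IsMonHom q]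
    [IsClosedImmersion q.left] : IsSeparated G.hom := by
  haveI := hQ
  haveI : IsClosedImmersion (η[Q]).left := by
    haveI : IsClosedImmersion ((η[Q]).left ≫ Q.hom) := by
      rw [Over.w (η[Q])]
      exact inferInstanceAs (IsClosedImmersion (𝟙 S))
    exact IsClosedImmersion.of_comp _ Q.hom
  haveI : IsClosedImmersion (η[G]).left := by
    rw [show η[G] = η[Q] ≫ q from (IsMonHom.one_hom (f := q)).symm, Over.comp_left]
    infer_instance
  refine ⟨?_⟩
  let d : G ⊗ G ⟶ G := fst G G * (snd G G)⁻¹
  have H : IsPullback (pullback.diagonal G.hom) G.hom d.left (η[G]).left := by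
    have h1 : IsPullback (lift (𝟙 G) (𝟙 G)) (toUnit G) d η[G] := by
      refine ⟨⟨?_⟩, ⟨PullbackCone.IsLimit.mk _ (fun s => s.fst ≫ fst G G) (fun s => ?_) (fun s => toUnit_unique _ _)
        (fun s m hm _ => ?_)⟩⟩
      · simp [d, MonObj.comp_mul, GrpObj.comp_inv, Hom.one_def]
      · apply CartesianMonoidalCategory.hom_ext
        · simp
        · have h2 := s.condition
          simp only [d, MonObj.comp_mul, GrpObj.comp_inv] at h2
          rw [show s.snd ≫ η[G] = (1 : s.pt ⟶ G) by rw [Hom.one_def, toUnit_unique s.snd (toUnit _)], mul_inv_eq_one] at h2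
          simp [h2]
      · rw [← hm]; simp
    have h2 := h1.map (Over.forget S)
    refine IsPullback.of_iso h2 (Iso.refl _) (Iso.refl _) (Iso.refl _) (Iso.refl _) ?_ ?_ ?_ ?_
    · simp only [Iso.refl_hom, Category.id_comp, Category.comp_id]
      show (lift (𝟙 G) (𝟙 G)).left = pullback.diagonal G.hom
      refine pullback.hom_ext ?_ ?_
      · rw [pullback.diagonal_fst]
        exact congrArg CommaMorphism.left (lift_fst (𝟙 G) (𝟙 G))
      · rw [pullback.diagonal_snd]
        exact congrArg CommaMorphism.left (lift_snd (𝟙 G) (𝟙 G))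
    · simp only [Iso.refl_hom, Category.id_comp, Category.comp_id]
      rfl
    · simp only [Iso.refl_hom, Category.id_comp, Category.comp_id]
      rfl
    · simp only [Iso.refl_hom, Category.id_comp, Category.comp_id]
      rfl
  exact MorphismProperty.of_isPullback H.flip ‹IsClosedImmersion (η[G]).left›

end Groth.Agent.TorusCentr19
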