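import Groth.Prelude.Def_ChGrp
import Mathlib.CategoryTheory.Monoidal.Cartesian.Grp
import Mathlib.GroupTheory.SemidirectProduct

/-! # Semidirect products of group schemes -/

set_option autoImplicit false
set_option linter.style.haveILetI false
set_option backward.isDefEq.respectTransparency.types false

universe u

open CategoryTheory Limits MonoidalCategory CartesianMonoidalCategory MonObj AlgebraicGeometry Opposite

noncomputable section

namespace Groth.Agent.TorusCentr19

variable {S : Scheme.{u}} {Q H : Over S} [GrpObj Q] [GrpObj H] (a : AlgGrp.Action Q H)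
  (hmul : ∀ (X : Over S) (q : X ⟶ Q) (h h' : X ⟶ H),
      lift q (h * h') ≫ a.act = (lift q h ≫ a.act) * (lift q h' ≫ a.act))

/-- The automorphism of points given by a point of the acting group. -/
def actAut (X : Over S) : (X ⟶ Q) →* MulAut (X ⟶ H) where
  toFun q :=
    { toFun := fun h => lift q h ≫ a.act
      invFun := fun h => lift q⁻¹ h ≫ a.act
      left_inv := fun h => by
        dsimp only
        rw [← AlgGrp.Action.lift_mul_act, inv_mul_cancel, AlgGrp.Action.lift_one_act]
      right_inv := fun h => by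
        dsimp only
        rw [← AlgGrp.Action.lift_mul_act, mul_inv_cancel, AlgGrp.Action.lift_one_act]
      map_mul' := hmul X q }
  map_one' := MulEquiv.ext fun h => AlgGrp.Action.lift_one_act a h
  map_mul' q q' := MulEquiv.ext fun h => AlgGrp.Action.lift_mul_act a q q' h

/-- The functor of points of the semidirect product. -/
def semiFun : (Over S)ᵒᵖ ⥤ GrpCat.{u} where
  obj X := GrpCat.of (SemidirectProduct (X.unop ⟶ H) (X.unop ⟶ Q) (actAut a hmul X.unop))
  map {X Y} f := GrpCat.ofHom
    { toFun := fun p => ⟨f.unop ≫ p.left, f.unop ≫ p.right⟩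
      map_one' := SemidirectProduct.ext (MonObj.comp_one _) (MonObj.comp_one _)
      map_mul' := fun p p' => by
        refine SemidirectProduct.ext ?_ ?_
        · show f.unop ≫ (p.left * (lift p.right p'.left ≫ a.act)) =
            (f.unop ≫ p.left) * (lift (f.unop ≫ p.right) (f.unop ≫ p'.left) ≫ a.act)
          rw [MonObj.comp_mul, comp_lift_assoc]
        · exact MonObj.comp_mul _ _ _ }
  map_id X := by ext p <;> exact Category.id_comp _
  map_comp f g := by ext p <;> exact Category.assoc _ _ _

/-- The semidirect product is represented by the product. -/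
def semiRep : ((semiFun a hmul) ⋙ forget GrpCat).RepresentableBy (Over.mk (H ⊗ Q).hom) where
  homEquiv {X} :=
    { toFun := fun l => (⟨(l : X ⟶ H ⊗ Q) ≫ fst H Q, (l : X ⟶ H ⊗ Q) ≫ snd H Q⟩ :
        SemidirectProduct (X ⟶ H) (X ⟶ Q) (actAut a hmul X))
      invFun := fun p => lift (p : SemidirectProduct (X ⟶ H) (X ⟶ Q) (actAut a hmul X)).left
        (p : SemidirectProduct (X ⟶ H) (X ⟶ Q) (actAut a hmul X)).right
      left_inv := fun l => CartesianMonoidalCategory.hom_ext _ _ (lift_fst _ _) (lift_snd _ _)
      right_inv := fun p => SemidirectProduct.ext (lift_fst _ _) (lift_snd _ _) }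
  homEquiv_comp {X X'} f g := SemidirectProduct.ext (Category.assoc _ _ _) (Category.assoc _ _ _)

/-- The semidirect product as a group object. -/
theorem exists_semi (hmul : ∀ (X : Over S) (q : X ⟶ Q) (h h' : X ⟶ H),
      lift q (h * h') ≫ a.act = (lift q h ≫ a.act) * (lift q h' ≫ a.act)) :
    ∃ (W : Over S) (_ : GrpObj W) (e : W ≅ H ⊗ Q),
      ∀ {X : Over S} (h h' : X ⟶ H) (q q' : X ⟶ Q),
        (lift h q ≫ e.inv) * (lift h' q' ≫ e.inv) = lift (h * (lift q h' ≫ a.act)) (q * q') ≫ e.inv := by
  let W : Over S := Over.mk (H ⊗ Q).hom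
  letI : GrpObj W := GrpObj.ofRepresentableBy W _ (semiRep a hmul)
  let e : W ≅ H ⊗ Q := Over.isoMk (Iso.refl _) (Category.id_comp _)
  refine ⟨W, inferInstance, e, fun {X} h h' q q' => ?_⟩
  have he : ∀ (x : X ⟶ H) (y : X ⟶ Q), lift x y ≫ e.inv = (semiRep a hmul).homEquiv.symm ⟨x, y⟩ := fun x y =>
    Over.OverMorphism.ext (Category.comp_id _)
  rw [he, he, he]
  refine (semiRep a hmul).homEquiv.injective ?_
  have hm : ∀ x y : X ⟶ W, (semiRep a hmul).homEquiv (x * y) =
      ((semiRep a hmul).homEquiv x * (semiRep a hmul).homEquiv y :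
        SemidirectProduct (X ⟶ H) (X ⟶ Q) (actAut a hmul X)) := fun x y =>
    map_mul (yonedaGrpObjIsoOfRepresentableBy W _ (semiRep a hmul) |>.app (op X)).hom.hom x y
  rw [hm, Equiv.apply_symm_apply, Equiv.apply_symm_apply, Equiv.apply_symm_apply]
  exact SemidirectProduct.ext rfl rfl

end Groth.Agent.TorusCentr19
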