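import Groth.Agent.Lib.TorusCentr19.Norm
import Groth.Agent.Lib.TorusCentr19.Semi
import Groth.Agent.Lib.MTRigid29.HomLocus
import Groth.Agent.Lib.TorPts21.Connected
import Groth.Agent.Lib.TorPts21.Max
import Groth.Agent.Lib.TorPts21.Torus
import Groth.Agent.Lib.PureSmooth29.ConnFibres
import Groth.Agent.Lib.TorusHom19.Basic
import Groth.Agent.Lib.OrbitTop19.Base

/-! # Fixed points of tori acting on groups by automorphisms -/

set_option autoImplicit false
set_option linter.style.haveILetI false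
set_option backward.isDefEq.respectTransparency.types false
set_option maxSynthPendingDepth 3

universe u

open CategoryTheory Limits MonoidalCategory CartesianMonoidalCategory MonObj AlgebraicGeometry Opposite

noncomputable section

namespace Groth.Agent.TorusCentr19

open DiagGL

theorem connectedSpace_fixed {K : Type u} [Field K] [IsAlgClosed K] {Q H F : Over (Spec (CommRingCat.of K))}
    [GrpObj Q] [GrpObj H] (hQ : Red.IsTorus Q) [IsAffine H.left] [Smooth H.hom] [ConnectedSpace H.left]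
    (a : AlgGrp.Action Q H)
    (hmul : ∀ (X : Over (Spec (CommRingCat.of K))) (q : X ⟶ Q) (h h' : X ⟶ H),
      lift q (h * h') ≫ a.act = (lift q h ≫ a.act) * (lift q h' ≫ a.act))
    (f : F ⟶ H) [Mono f]
    (hF : ∀ (X : Over (Spec (CommRingCat.of K))) (h : X ⟶ H), (∃ x : X ⟶ F, x ≫ f = h) ↔
        ∀ (X' : Over (Spec (CommRingCat.of K))) (g : X' ⟶ X) (q : X' ⟶ Q), lift q (g ≫ h) ≫ a.act = g ≫ h) :
    ConnectedSpace F.left := by
  obtain ⟨hQa, hQs, hQc, -⟩ := TorPts21.props_of_isTorus hQ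
  haveI := hQa
  haveI := hQs
  haveI := hQc
  obtain ⟨r, ⟨Ch⟩⟩ := TorPts21.exists_chars hQ
  obtain ⟨W, _, e, hm⟩ := exists_semi a hmul
  haveI : Smooth (H ⊗ Q).hom := inferInstanceAs (Smooth (pullback.fst H.hom Q.hom ≫ H.hom))
  haveI : IsAffine (H ⊗ Q).left := inferInstanceAs (IsAffine (pullback H.hom Q.hom))
  haveI : ConnectedSpace (H ⊗ Q).left := by
    haveI := AbRigid.irreducibleSpace_of_isAlgClosed H
    haveI := AbRigid.geometricallyIrreducible_of_connected Q
    haveI : IrreducibleSpace ↥(Limits.pullback H.hom Q.hom) := inferInstance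
    exact inferInstanceAs (ConnectedSpace ↥(Limits.pullback H.hom Q.hom))
  haveI : IsIso e.hom.left := inferInstanceAs (IsIso ((Over.forget _).map e.hom))
  haveI : Smooth W.hom := by rw [← Over.w e.hom]; infer_instance
  haveI : IsAffine W.left := IsAffine.of_isIso e.hom.left
  haveI : ConnectedSpace W.left := e.inv.left.surjective.connectedSpace e.inv.left.continuous
  let τ : Q ⟶ W := lift (1 : Q ⟶ H) (𝟙 Q) ≫ e.inv
  have hτ : ∀ {X : Over (Spec (CommRingCat.of K))} (q : X ⟶ Q), q ≫ τ = lift (1 : X ⟶ H) q ≫ e.inv := fun q => by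
    simp only [τ, ← Category.assoc, comp_lift, MonObj.comp_one, Category.comp_id]
  have hone : ∀ {X : Over (Spec (CommRingCat.of K))} (q : X ⟶ Q), lift q (1 : X ⟶ H) ≫ a.act = 1 := fun {X} q => by
    have h1 := hmul X q 1 1
    rw [_root_.one_mul (1 : X ⟶ H)] at h1
    exact mul_eq_left.1 h1.symm
  haveI : IsMonHom τ := TorsorSch25.isMonHom_of_points _ fun X q q' => by
    rw [hτ, hτ, hτ, hm, hone, _root_.one_mul]
  haveI : IsSeparated W.hom := inferInstance
  obtain ⟨CW, _, cw, hCW, -, -⟩ := exists_centralizer' (MTRigid29.isMT_of_ft (MTRigid29.isMultTypeFT_of_torus hQ))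
    ‹Smooth W.hom› τ
  haveI : ConnectedSpace CW.left := TorPts21.connectedSpace_centralizer hQ hCW
  have hcomm : ∀ {X : Over (Spec (CommRingCat.of K))} (h : X ⟶ H) (q q' : X ⟶ Q),
      ((lift h q ≫ e.inv) * (q' ≫ τ) = (q' ≫ τ) * (lift h q ≫ e.inv)) ↔ lift q' h ≫ a.act = h := by
    intro X h q q'
    rw [hτ, hm, hm, hone, _root_.mul_one, _root_.one_mul, (TorPts21.commute_of_chars Ch q q').eq, cancel_mono]
    refine ⟨fun e1 => ?_, fun e1 => by rw [e1]⟩
    simpa using (congrArg (· ≫ fst H Q) e1).symm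
  obtain ⟨pF, hpF⟩ := (hF CW (cw ≫ e.hom ≫ fst H Q)).2 fun X g q => by
    have h1 := (hCW.2.2 CW cw).1 ⟨𝟙 CW, Category.id_comp cw⟩ X g q
    have e1 : g ≫ cw = lift (g ≫ cw ≫ e.hom ≫ fst H Q) (g ≫ cw ≫ e.hom ≫ snd H Q) ≫ e.inv := by
      rw [← cancel_mono e.hom, Category.assoc, Category.assoc, Iso.inv_hom_id, Category.comp_id]
      exact CartesianMonoidalCategory.hom_ext _ _ (by simp) (by simp)
    rw [e1] at h1
    exact (hcomm _ _ q).1 h1
  obtain ⟨sF, hsF⟩ := (hCW.2.2 F (lift f (1 : F ⟶ Q) ≫ e.inv)).2 fun X g q => by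
    rw [← Category.assoc g, comp_lift, MonObj.comp_one]
    exact (hcomm _ _ q).2 ((hF F f).1 ⟨𝟙 F, Category.id_comp f⟩ X g q)
  have hret : sF ≫ pF = 𝟙 F := (cancel_mono f).1 (by
    rw [Category.assoc, hpF, reassoc_of% hsF, Iso.inv_hom_id_assoc, lift_fst, Category.id_comp])
  haveI : Surjective pF.left := ⟨fun z => ⟨sF.left z, by
    rw [← Scheme.Hom.comp_apply, ← Over.comp_left, hret]; rfl⟩⟩
  exact pF.left.surjective.connectedSpace pF.left.continuous

theorem range_to_residueField {S Z : Scheme.{u}} (s : S) (e : Z ⟶ Spec (S.residueField s)) [Nonempty Z] :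
    Set.range (e ≫ S.fromSpecResidueField s) = {s} := by
  refine Set.Subset.antisymm ?_ ?_
  · rintro _ ⟨p, rfl⟩
    rw [Scheme.Hom.comp_apply]
    exact S.fromSpecResidueField_apply s (e p)
  · rintro y hy
    obtain ⟨p⟩ := ‹Nonempty Z›
    exact ⟨p, by rw [Scheme.Hom.comp_apply, S.fromSpecResidueField_apply s (e p)]; exact hy.symm⟩

variable {S : Scheme.{u}} {Q H F : Over S} [GrpObj Q] [GrpObj H]

open Functor.LaxMonoidal in
theorem fl_mapAction {S' : Scheme.{u}} (φ : S' ⟶ S) (a : AlgGrp.Action Q H) {T : Over S'}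
    (q : T ⟶ Red.bc φ Q) (h : T ⟶ Red.bc φ H) :
    fl φ H (lift q h ≫ (OrbitTop19.mapAction (Over.pullback φ) a).act) = lift (fl φ Q q) (fl φ H h) ≫ a.act := by
  refine ((Over.mapPullbackAdj φ).homEquiv _ _).injective ?_
  rw [fl, Equiv.apply_symm_apply]
  show lift q h ≫ Functor.LaxMonoidal.μ (Over.pullback φ) Q H ≫ (Over.pullback φ).map a.act = _
  rw [Adjunction.homEquiv_naturality_right, ← Category.assoc]
  congr 1
  rw [Adjunction.homEquiv_unit, ← cancel_mono (Functor.OplaxMonoidal.δ (Over.pullback φ) Q H), Category.assoc,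
    Functor.Monoidal.μ_δ, Category.comp_id]
  refine CartesianMonoidalCategory.hom_ext _ _ ?_ ?_
  · rw [lift_fst, Category.assoc, Functor.OplaxMonoidal.δ_fst, Category.assoc, ← Functor.map_comp, lift_fst,
      ← Adjunction.homEquiv_unit, fl, Equiv.apply_symm_apply]
  · rw [lift_snd, Category.assoc, Functor.OplaxMonoidal.δ_snd, Category.assoc, ← Functor.map_comp, lift_snd,
      ← Adjunction.homEquiv_unit, fl, Equiv.apply_symm_apply]

theorem fixed_iff_bc {S' : Scheme.{u}} (φ : S' ⟶ S) (a : AlgGrp.Action Q H) (f : F ⟶ H)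
    (hF : ∀ (X : Over S) (h : X ⟶ H), (∃ x : X ⟶ F, x ≫ f = h) ↔
        ∀ (X' : Over S) (g : X' ⟶ X) (q : X' ⟶ Q), lift q (g ≫ h) ≫ a.act = g ≫ h)
    (X : Over S') (h : X ⟶ Red.bc φ H) :
    (∃ x : X ⟶ (Over.pullback φ).obj F, x ≫ (Over.pullback φ).map f = h) ↔
      ∀ (X' : Over S') (g : X' ⟶ X) (q : X' ⟶ Red.bc φ Q),
        lift q (g ≫ h) ≫ (OrbitTop19.mapAction (Over.pullback φ) a).act = g ≫ h := by
  let adj := Over.mapPullbackAdj φ
  constructor
  · rintro ⟨x, rfl⟩ X' g q
    refine fl_injective φ H ?_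
    have hh : fl φ H (g ≫ x ≫ (Over.pullback φ).map f) = (adj.homEquiv X' F).symm (g ≫ x) ≫ f := by
      rw [← Category.assoc]
      exact Adjunction.homEquiv_naturality_right_symm _ _ _
    rw [fl_mapAction, hh]
    have h1 := (hF _ ((adj.homEquiv X' F).symm (g ≫ x) ≫ f)).1 ⟨_, rfl⟩ _ (𝟙 _) (fl φ Q q)
    rwa [Category.id_comp] at h1
  · intro hh
    obtain ⟨x, hx⟩ := (hF _ (fl φ H h)).2 fun X' g q => by
      let Y : Over S' := Over.mk (g.left ≫ X.hom)
      let i : X' ≅ (Over.map φ).obj Y := Over.isoMk (Iso.refl _) (by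
        show 𝟙 _ ≫ (g.left ≫ X.hom) ≫ φ = X'.hom
        rw [Category.id_comp, Category.assoc]
        exact Over.w g)
      let y : Y ⟶ X := Over.homMk g.left rfl
      have hg : g = i.hom ≫ (Over.map φ).map y := Over.OverMorphism.ext (Category.id_comp _).symm
      obtain ⟨q', hq'⟩ := fl_surjective φ Q (i.inv ≫ q)
      have hq : q = i.hom ≫ fl φ Q q' := by rw [hq', Iso.hom_inv_id_assoc]
      have h1 : lift (fl φ Q q') (fl φ H (y ≫ h)) ≫ a.act = fl φ H (y ≫ h) := by
        rw [← fl_mapAction, hh Y y q']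
      rw [hq, hg, Category.assoc, ← fl_comp, ← comp_lift, Category.assoc, h1]
    exact ⟨adj.homEquiv X F x, fl_injective φ H
      ((Adjunction.homEquiv_naturality_right_symm _ _ _).trans (by rw [Equiv.symm_apply_apply]; exact hx))⟩

theorem isConnected_fibre_fixed (hQ : Red.IsTorus Q) [IsAffineHom H.hom] [Smooth H.hom]
    (hconn : ∀ s : S, _root_.IsConnected (H.hom.base ⁻¹' {s})) (a : AlgGrp.Action Q H)
    (hmul : ∀ (X : Over S) (q : X ⟶ Q) (h h' : X ⟶ H),
      lift q (h * h') ≫ a.act = (lift q h ≫ a.act) * (lift q h' ≫ a.act))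
    (f : F ⟶ H) [Mono f]
    (hF : ∀ (X : Over S) (h : X ⟶ H), (∃ x : X ⟶ F, x ≫ f = h) ↔
        ∀ (X' : Over S) (g : X' ⟶ X) (q : X' ⟶ Q), lift q (g ≫ h) ≫ a.act = g ≫ h)
    (s : S) : _root_.IsConnected (F.hom.base ⁻¹' {s}) := by
  let K := AlgebraicClosure (S.residueField s)
  let e : Spec (CommRingCat.of K) ⟶ Spec (S.residueField s) :=
    Spec.map (CommRingCat.ofHom (algebraMap (S.residueField s) K))
  let φ : Spec (CommRingCat.of K) ⟶ S := e ≫ S.fromSpecResidueField s
  haveI : Smooth (Red.bc φ H).hom := MorphismProperty.pullback_snd _ _ ‹Smooth H.hom›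
  haveI : IsAffine (Red.bc φ H).left :=
    haveI : IsAffineHom (pullback.snd H.hom φ) := MorphismProperty.pullback_snd _ _ ‹IsAffineHom H.hom›
    isAffine_of_isAffineHom (pullback.snd H.hom φ)
  haveI : ConnectedSpace (Red.bc φ H).left := by
    haveI : ConnectedSpace (Red.bc (S.fromSpecResidueField s) H).left :=
      PureSmooth29.connectedSpace_fibre H.hom hconn s
    haveI : LocallyOfFiniteType (Red.bc (S.fromSpecResidueField s) H).hom :=
      MorphismProperty.pullback_snd _ _ (inferInstance : LocallyOfFiniteType H.hom)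
    haveI : ConnectedSpace ↥(pullback (pullback.snd H.hom (S.fromSpecResidueField s)) e) :=
      BorelFix21.connectedSpace_bc (k := S.residueField s) e (Red.bc (S.fromSpecResidueField s) H)
    exact (pullbackLeftPullbackSndIso H.hom (S.fromSpecResidueField s) e).hom.surjective.connectedSpace
      (pullbackLeftPullbackSndIso H.hom (S.fromSpecResidueField s) e).hom.continuous
  haveI : Mono ((Over.pullback φ).map f) := inferInstance
  haveI : ConnectedSpace (Red.bc φ F).left := by
    refine connectedSpace_fixed (TorusHom19.isTorus_bc hQ φ) (OrbitTop19.mapAction (Over.pullback φ) a)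
      (fun X q h h' => fl_injective φ H (by rw [fl_mapAction, fl_mul, fl_mul, fl_mapAction, fl_mapAction, hmul]))
      ((Over.pullback φ).map f) (fixed_iff_bc φ a f hF)
  have hr : Set.range (pullback.fst F.hom φ) = F.hom.base ⁻¹' {s} := by
    rw [Scheme.Pullback.range_fst]
    rw [show Set.range φ = {s} from range_to_residueField s e]
  rw [← hr]
  haveI : ConnectedSpace ↥(pullback F.hom φ) := ‹ConnectedSpace (Red.bc φ F).left›
  exact isConnected_range (pullback.fst F.hom φ).continuous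

end Groth.Agent.TorusCentr19
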